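import Groth.Agent.StCohH99.FieldPts
import Groth.Agent.Fib44.Yoneda
import Groth.Prelude.Def_AlgSp3
import Groth.Prelude.Def_AlgSt2

/-!
Finite inertia gives finite automorphism groups over algebraically closed fields.
-/

set_option autoImplicit false
set_option backward.isDefEq.respectTransparency false
set_option backward.isDefEq.respectTransparency.types false
set_option linter.style.haveILetI false

noncomputable section

universe u

open CategoryTheory CategoryTheory.Limits AlgebraicGeometry Opposite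

namespace Groth.Agent.StCohH99

variable {S : Scheme.{u}} {𝒢 : AlgSt.Cat S}

theorem finite_aut (hp : FibCat.IsFibGrpd 𝒢.p)
    (hI : AlgSt.RepByAlgSpWith AlgSp.IsFiniteMor (FibCat.inertiaToBase (FibCat.toSelf 𝒢)))
    {Ω : Type u} [Field Ω] (t : Spec (CommRingCat.of Ω) ⟶ S) {w : 𝒢.obj} (hw : 𝒢.p.obj w = Over.mk t) :
    Finite {α : w ⟶ w // 𝒢.p.IsHomLift (𝟙 (𝒢.p.obj w)) α} := by
  let U : Over S := Over.mk t
  haveI := Fib44.isFibered_of_isFibGrpd 𝒢.p (h := hp)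
  obtain ⟨G, e₀, he₀, -⟩ := Fib44.exists_ofObj (𝒳 := 𝒢) (U := U) (x := w) hw
  obtain ⟨F, Φ, ⟨Ψ, -, ⟨ε⟩⟩, hfin⟩ := hI U G
  let Φ' := BasedFunctor.comp Φ (FibCat.fpFst G (FibCat.inertiaToBase (FibCat.toSelf 𝒢)))
  let f := AlgSt.spMapOfOver Φ'
  haveI : IsAffine U.left := inferInstanceAs (IsAffine (Spec (CommRingCat.of Ω)))
  obtain ⟨W, i, fst, hsq, -, hfi⟩ := hfin (Z := U) inferInstance (𝟙 _)
  let o : {α : w ⟶ w // 𝒢.p.IsHomLift (𝟙 (𝒢.p.obj w)) α} →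
      (FibCat.fp G (FibCat.inertiaToBase (FibCat.toSelf 𝒢))).obj := fun α =>
    haveI := α.2
    haveI : IsIso α.1 := Fib44.isIso_of_fibGrpd 𝒢.p hp (𝟙 (𝒢.p.obj w)) α.1
    ⟨{ fst := Fib44.idObj U
       snd := (⟨w, asIso α.1, by
         show 𝒢.p.map α.1 = _
         rw [IsHomLift.fac' 𝒢.p (𝟙 (𝒢.p.obj w)) α.1]
         simp; rfl⟩ : FibCat.InertiaObj (FibCat.toSelf 𝒢))
       iso := e₀ }, he₀⟩
  let a := fun α => Ψ.obj (o α)
  have hbase : ∀ α, (a α).base = U := fun α => Ψ.w_obj (o α)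
  let ev := fun α => ((BasedNatTrans.forgetful _ _).mapIso ε).app (o α)
  -- value of the section
  have hval : ∀ α, AlgSt.secHom Φ' (a α) = eqToHom (hbase α) := by
    intro α
    let m : Φ.obj (a α) ⟶ o α := (ev α).hom
    have hm : (FibCat.fp G (FibCat.inertiaToBase (FibCat.toSelf 𝒢))).p.IsHomLift
        (𝟙 ((FibCat.fp G (FibCat.inertiaToBase (FibCat.toSelf 𝒢))).p.obj (o α))) m :=
      ε.hom.isHomLift' (o α)
    have h1 := IsHomLift.fac' (FibCat.fp G (FibCat.inertiaToBase (FibCat.toSelf 𝒢))).p (𝟙 ((FibCat.fp G (FibCat.inertiaToBase (FibCat.toSelf 𝒢))).p.obj (o α))) m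
    have h2 : m.hom.fst.left ≫ 𝟙 U = (Φ'.obj (a α)).hom := Over.w m.hom.fst
    have h2' : m.hom.fst.left = (Φ'.obj (a α)).hom := (Category.comp_id _).symm.trans h2
    show eqToHom _ ≫ (Φ'.obj (a α)).hom = _
    refine (congrArg (eqToHom _ ≫ ·) (h2'.symm.trans h1)).trans ?_
    simp only [Category.id_comp, eqToHom_trans]

  -- the sections over `U`
  have htr : ∀ (A : (AlgSt.ofSp F.obj).obj) (h : A.base = U), AlgSt.secHom Φ' A = eqToHom h →
      ∃ y : F.obj.obj.obj (op U), A = (⟨U, y⟩ : (AlgSt.ofSp F.obj).obj) ∧ AlgSt.secHom Φ' ⟨U, y⟩ = 𝟙 U := by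
    rintro ⟨B, y⟩ (rfl : B = U) hA
    exact ⟨y, rfl, hA.trans (eqToHom_refl _ _)⟩
  choose y hy hy' using fun α => htr (a α) (hbase α) (hval α)
  haveI : Finite {s : Spec (CommRingCat.of Ω) ⟶ W.left // s ≫ i.left = 𝟙 _} := by
    haveI := hfi
    exact finite_lifts (B := Spec (CommRingCat.of Ω)) (𝟙 _) i.left (𝟙 _)
  have hsec : ∀ α, ∃ s : U ⟶ W, s ≫ i = 𝟙 U ∧ fst.hom.app (op U) ⟨s⟩ = y α := by
    intro α
    let yh : (AlgSp.yon S).obj U ⟶ F.obj := ObjectProperty.homMk (uliftYonedaEquiv.symm (y α))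
    have hyh : yh ≫ f = (𝟙 ((AlgSp.yon S).obj U)) ≫ 𝟙 _ := by
      refine ObjectProperty.hom_ext _ (uliftYonedaEquiv.injective ?_)
      show f.hom.app (op U) (F.obj.obj.map (𝟙 (op U)) (y α)) = ⟨𝟙 U⟩
      rw [F.obj.obj.map_id]
      exact congrArg ULift.up (hy' α)
    obtain ⟨l, hl₁, hl₂⟩ : ∃ l, l ≫ fst = yh ∧ l ≫ (AlgSp.yon S).map i = 𝟙 _ :=
      ⟨hsq.lift yh (𝟙 _) hyh, hsq.lift_fst _ _ _, hsq.lift_snd _ _ _⟩
    refine ⟨(l.hom.app (op U) ⟨𝟙 U⟩).down, ?_, ?_⟩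
    · exact congrArg ULift.down
        (congrArg (fun n : (AlgSp.yon S).obj U ⟶ (AlgSp.yon S).obj U => n.hom.app (op U) ⟨𝟙 U⟩) hl₂)
    · refine (congrArg (fun n : (AlgSp.yon S).obj U ⟶ F.obj => n.hom.app (op U) ⟨𝟙 U⟩) hl₁).trans ?_
      exact congr($(F.obj.obj.map_id (op U)) (y α))
  choose s hs hs' using hsec
  refine Finite.of_injective (fun α => (⟨(s α).left, congrArg CommaMorphism.left (hs α)⟩ :
    {s : Spec (CommRingCat.of Ω) ⟶ W.left // s ≫ i.left = 𝟙 _})) fun α β e => ?_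
  have es : s α = s β := Over.OverMorphism.ext (congrArg Subtype.val e)
  have ea : a α = a β := by rw [hy α, hy β, ← hs' α, ← hs' β, es]
  let μ : o α ⟶ o β := (ev α).inv ≫ eqToHom (congrArg Φ.obj ea) ≫ (ev β).hom
  have hμ : (FibCat.fp G (FibCat.inertiaToBase (FibCat.toSelf 𝒢))).p.map μ = 𝟙 U := by
    have h1 : ∀ γ, (FibCat.fp G (FibCat.inertiaToBase (FibCat.toSelf 𝒢))).p.IsHomLift
        (𝟙 ((FibCat.fp G (FibCat.inertiaToBase (FibCat.toSelf 𝒢))).p.obj (o γ))) (ev γ).hom := fun γ =>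
      ε.hom.isHomLift' (o γ)
    have h2 : ∀ γ, (FibCat.fp G (FibCat.inertiaToBase (FibCat.toSelf 𝒢))).p.IsHomLift
        (𝟙 ((FibCat.fp G (FibCat.inertiaToBase (FibCat.toSelf 𝒢))).p.obj (o γ))) (ev γ).inv := fun γ =>
      ε.inv.isHomLift' (o γ)
    have := h1 β
    have := h2 α
    simp only [μ, Functor.map_comp, eqToHom_map]
    rw [IsHomLift.fac' _ (𝟙 ((FibCat.fp G (FibCat.inertiaToBase (FibCat.toSelf 𝒢))).p.obj (o α))) (ev α).inv,
      IsHomLift.fac' _ (𝟙 ((FibCat.fp G (FibCat.inertiaToBase (FibCat.toSelf 𝒢))).p.obj (o β))) (ev β).hom]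
    simp only [Category.id_comp, Category.comp_id, eqToHom_trans]
    exact eqToHom_refl _ _
  have hfst : μ.hom.fst = 𝟙 (Fib44.idObj U) := Over.OverMorphism.ext hμ
  have hsq' : G.map μ.hom.fst ≫ e₀.hom = e₀.hom ≫ μ.hom.snd.hom := μ.hom.w
  rw [hfst, G.map_id, Category.id_comp] at hsq'
  have hsnd : μ.hom.snd.hom = 𝟙 w := by
    rw [← cancel_epi e₀.hom, ← hsq', Category.comp_id]
  have hc : α.1 ≫ μ.hom.snd.hom = μ.hom.snd.hom ≫ β.1 := μ.hom.snd.comm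
  rw [hsnd, Category.comp_id, Category.id_comp] at hc
  exact Subtype.ext hc

end Groth.Agent.StCohH99
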