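import Groth.Agent.StCohH99.H1Vanish
import Groth.Agent.StCohH99.FinAut
import Groth.Agent.Fib44.Site
import Groth.Agent.Fib44.Gerbe
import Groth.Prelude.Def_StGerb
import Mathlib.AlgebraicGeometry.Noetherian
import Mathlib.AlgebraicGeometry.Morphisms.Flat

/-!
Gerbes over a field with finite inertia have no first cohomology with integral coefficients.
-/

set_option autoImplicit false
set_option backward.isDefEq.respectTransparency false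
set_option backward.isDefEq.respectTransparency.types false
set_option linter.style.haveILetI false

noncomputable section

universe u

open CategoryTheory CategoryTheory.Limits AlgebraicGeometry Opposite

namespace Groth.Agent.StCohH99

variable {k : Type u} [Field k] {𝒢 : AlgSt.Cat (Spec (CommRingCat.of k))}

local notation "K₀" => Scheme.fppfPrecoverage
local notation "J₀" => QuotSh.J Scheme.fppfPrecoverage (Spec (CommRingCat.of k))

theorem res_res {C : Type (u + 1)} [Category.{u} C] {J : GrothendieckTopology C} (F : Sheaf J AddCommGrpCat.{u + 1})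
    {x y z : C} (f : y ⟶ x) (g : z ⟶ y) (a : F.obj.obj (op x)) :
    F.obj.map g.op (F.obj.map f.op a) = F.obj.map (g ≫ f).op a := by
  rw [op_comp, F.obj.map_comp]
  rfl

theorem mem_of_push (x : 𝒢.obj) {R : Sieve x} (h : R.functorPushforward 𝒢.p ∈ J₀ (𝒢.p.obj x)) :
    R ∈ StCoh.J K₀ 𝒢 x :=
  Functor.mem_restrictedTopology_of_functorPushforward_mem h

theorem eq_top_at_geom (hp : FibCat.IsFibGrpd 𝒢.p) {Ω : Type u} [Field Ω] [IsAlgClosed Ω]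
    {t : Spec (CommRingCat.of Ω) ⟶ Spec (CommRingCat.of k)} {w : 𝒢.obj} (hw : 𝒢.p.obj w = Over.mk t) (R : Sieve w)
    (hR : R ∈ StCoh.J K₀ 𝒢 w) : R = ⊤ := by
  have h := (Fib44.mem_restricted_iff hp R).1 hR
  have aux : ∀ (T : Over (Spec (CommRingCat.of k))) (P : Sieve T), T = Over.mk t → P ∈ J₀ T → P = ⊤ := by
    rintro T P rfl hP
    exact eq_top_of_geom t hP
  have h2 := aux _ _ hw h
  rw [← Sieve.id_mem_iff_eq_top, ← Fib44.push_map_iff hp, h2]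
  trivial

theorem bot_mem_at_empty (hp : FibCat.IsFibGrpd 𝒢.p) {y : 𝒢.obj} [IsEmpty (𝒢.p.obj y).left] :
    (⊥ : Sieve y) ∈ StCoh.J K₀ 𝒢 y := by
  refine mem_of_push y (GrothendieckTopology.superset_covering _ ?_ (bot_mem_of_isEmpty (S := Spec (CommRingCat.of k))))
  exact bot_le

section Vanish

variable {T : ShortComplex (StCoh.Ab K₀ 𝒢)} (hT : T.ShortExact) (q : Fam T.X₃.obj)
  {L : Type u} [Field L] {s : Spec (CommRingCat.of L) ⟶ Spec (CommRingCat.of k)} [IsFinite s]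
  {ξ : 𝒢.obj} (hξ : 𝒢.p.obj ξ = Over.mk s) {t₀ : T.X₂.obj.obj (op ξ)} (ht₀ : T.g.hom.app (op ξ) t₀ = q.s ξ)

include hT ht₀ in
theorem exists_diff {y : 𝒢.obj} (a b : y ⟶ ξ) :
    ∃ c, T.f.hom.app (op y) c = T.X₂.obj.map a.op t₀ - T.X₂.obj.map b.op t₀ := by
  refine (sections_preimage hT y _ ?_).2
  rw [map_sub, NatTrans.naturality_apply, NatTrans.naturality_apply, ht₀, q.comp, q.comp, sub_self]

include hξ in
theorem finite_maps (hp : FibCat.IsFibGrpd 𝒢.p)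
    (hI : AlgSt.RepByAlgSpWith AlgSp.IsFiniteMor (FibCat.inertiaToBase (FibCat.toSelf 𝒢)))
    {Ω : Type u} [Field Ω] {t : Spec (CommRingCat.of Ω) ⟶ Spec (CommRingCat.of k)} {w : 𝒢.obj}
    (hw : 𝒢.p.obj w = Over.mk t) : Finite (w ⟶ ξ) := by
  haveI := finite_lifts (B := Spec (CommRingCat.of k)) (𝟙 _) s t
  haveI : Finite (𝒢.p.obj w ⟶ 𝒢.p.obj ξ) := by
    rw [hw, hξ]
    exact Finite.of_injective (fun e => (⟨e.left, Over.w e⟩ : {g : Spec (CommRingCat.of Ω) ⟶ Spec (CommRingCat.of L) // g ≫ s = t}))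
      fun e e' h => Over.OverMorphism.ext (congrArg Subtype.val h)
  haveI := finite_aut hp hI t hw
  have hfib : ∀ e : 𝒢.p.obj w ⟶ 𝒢.p.obj ξ, Finite {φ : w ⟶ ξ // 𝒢.p.map φ = e} := by
    intro e
    rcases isEmpty_or_nonempty {φ : w ⟶ ξ // 𝒢.p.map φ = e} with h | ⟨φ₀, hφ₀⟩
    · infer_instance
    haveI := hp.isStronglyCartesian φ₀
    have hl : ∀ φ : {φ : w ⟶ ξ // 𝒢.p.map φ = e}, 𝒢.p.IsHomLift (𝒢.p.map φ₀) φ.1 := fun φ => by
      have e' : 𝒢.p.map φ₀ = 𝒢.p.map φ.1 := hφ₀.trans φ.2.symm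
      rw [e']; infer_instance
    let m : {φ : w ⟶ ξ // 𝒢.p.map φ = e} → {α : w ⟶ w // 𝒢.p.IsHomLift (𝟙 (𝒢.p.obj w)) α} := fun φ =>
      haveI := hl φ
      ⟨Functor.IsStronglyCartesian.map 𝒢.p (𝒢.p.map φ₀) φ₀ (g := 𝟙 (𝒢.p.obj w)) (f' := 𝒢.p.map φ₀)
        (Category.id_comp _).symm φ.1, inferInstance⟩
    refine Finite.of_injective m fun φ φ' h => Subtype.ext ?_
    have hm : ∀ φ, (m φ).1 ≫ φ₀ = φ.1 := fun φ => by
      haveI := hl φ
      exact Functor.IsStronglyCartesian.fac 𝒢.p (𝒢.p.map φ₀) φ₀ (g := 𝟙 (𝒢.p.obj w)) (f' := 𝒢.p.map φ₀)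
        (Category.id_comp _).symm φ.1
    rw [← hm φ, ← hm φ', h]
  exact Finite.of_equiv _ (Equiv.sigmaFiberEquiv fun φ : w ⟶ ξ => 𝒢.p.map φ)

include hT ht₀ hξ in
theorem eq_at_geom (hp : FibCat.IsFibGrpd 𝒢.p)
    (hI : AlgSt.RepByAlgSpWith AlgSp.IsFiniteMor (FibCat.inertiaToBase (FibCat.toSelf 𝒢)))
    (hX₁ : T.X₁ = cst (StCoh.J K₀ 𝒢) ℤ)
    {Ω : Type u} [Field Ω] [IsAlgClosed Ω] (hΩ : max (Cardinal.mk L) Cardinal.aleph0 < Cardinal.mk Ω)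
    {t : Spec (CommRingCat.of Ω) ⟶ Spec (CommRingCat.of k)} {w : 𝒢.obj} (hw : 𝒢.p.obj w = Over.mk t)
    (a b : w ⟶ ξ) : T.X₂.obj.map a.op t₀ = T.X₂.obj.map b.op t₀ := by
  classical
  obtain @⟨X₁, X₂, X₃, f, g, zero⟩ := T
  subst hX₁
  let D : (w ⟶ ξ) → (w ⟶ ξ) → X₂.obj.obj (op w) := fun φ ψ => X₂.obj.map φ.op t₀ - X₂.obj.map ψ.op t₀
  have hbij := cval_bijective (StCoh.J K₀ 𝒢) ℤ (x := w) (eq_top_at_geom hp hw)
  have hD : ∀ φ ψ, ∃ n, f.hom.app (op w) (cval (StCoh.J K₀ 𝒢) ℤ w n) = D φ ψ := fun φ ψ => by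
    obtain ⟨c, hc⟩ := exists_diff hT q ht₀ φ ψ
    obtain ⟨n, rfl⟩ := hbij.2 c
    exact ⟨n, hc⟩
  have hinv : ∀ (θ : w ⟶ w) (φ ψ : w ⟶ ξ), D (θ ≫ φ) (θ ≫ ψ) = D φ ψ := fun θ φ ψ => by
    obtain ⟨n, hn⟩ := hD φ ψ
    have e : X₂.obj.map θ.op (D φ ψ) = D (θ ≫ φ) (θ ≫ ψ) := by
      rw [map_sub, res_res, res_res]
    rw [← e, ← hn, ← NatTrans.naturality_apply, map_cval]
  -- an automorphism carrying one to the other
  let e : (w ⟶ ξ) → (Over.mk t ⟶ Over.mk s) := fun φ => eqToHom hw.symm ≫ 𝒢.p.map φ ≫ eqToHom hξ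
  obtain ⟨τ, hτ⟩ := exists_point_aut hΩ s t (e a) (e b)
  let τ' : 𝒢.p.obj w ⟶ 𝒢.p.obj w := eqToHom hw ≫ τ.hom ≫ eqToHom hw.symm
  have hτ' : 𝒢.p.map b = τ' ≫ 𝒢.p.map a := by
    rw [← cancel_mono (eqToHom hξ), ← cancel_epi (eqToHom hw.symm)]
    simp only [τ', Category.assoc, eqToHom_trans_assoc, eqToHom_refl, Category.id_comp]
    exact hτ.symm
  haveI := hp.isStronglyCartesian a
  let θ := Functor.IsStronglyCartesian.map 𝒢.p (𝒢.p.map a) a (g := τ') (f' := 𝒢.p.map b) hτ' b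
  have hθ : θ ≫ a = b := Functor.IsStronglyCartesian.fac 𝒢.p (𝒢.p.map a) a hτ' b
  haveI : IsIso τ' := inferInstance
  haveI : 𝒢.p.IsHomLift τ' θ := Functor.IsStronglyCartesian.map_isHomLift 𝒢.p (𝒢.p.map a) a hτ' b
  haveI : IsIso θ := Fib44.isIso_of_fibGrpd 𝒢.p hp τ' θ
  haveI := finite_maps hξ hp hI hw
  haveI := Fintype.ofFinite (w ⟶ ξ)
  let σ : (w ⟶ ξ) ≃ (w ⟶ ξ) :=
    { toFun := fun φ => θ ≫ φ
      invFun := fun φ => inv θ ≫ φ
      left_inv := fun φ => by simp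
      right_inv := fun φ => by simp }
  have hconst : ∀ φ, D φ (θ ≫ φ) = D a b := fun φ => by
    have h1 : D φ (θ ≫ φ) = D φ a + D a b + D b (θ ≫ φ) := by simp only [D]; abel
    have h2 : D b (θ ≫ φ) = D a φ := by rw [← hinv θ a φ, hθ]
    rw [h1, h2]; simp only [D]; abel
  have hsum : (∑ φ : w ⟶ ξ, D φ (θ ≫ φ)) = 0 := by
    simp only [D, Finset.sum_sub_distrib, sub_eq_zero]
    exact (Equiv.sum_comp σ (fun φ => X₂.obj.map φ.op t₀)).symm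
  rw [Finset.sum_congr rfl (fun φ _ => hconst φ), Finset.sum_const, Finset.card_univ] at hsum
  obtain ⟨n, hn⟩ := hD a b
  rw [← hn, ← map_nsmul] at hsum
  have hc : Fintype.card (w ⟶ ξ) • cval (StCoh.J K₀ 𝒢) ℤ w n = cval (StCoh.J K₀ 𝒢) ℤ w (Fintype.card (w ⟶ ξ) • n) :=
    (map_nsmul (AddMonoidHom.mk' (cval (StCoh.J K₀ 𝒢) ℤ w) (cval_add _ _ w)) _ n).symm
  rw [hc] at hsum
  have h0 := hbij.1 (((sections_preimage hT w (0 : X₂.obj.obj (op w)) (map_zero _)).1 (hsum.trans (map_zero _).symm)).trans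
    (cval_zero _ _ w).symm)
  have hne : Fintype.card (w ⟶ ξ) ≠ 0 := @Fintype.card_ne_zero _ _ ⟨a⟩
  have hn0 : n = 0 := by simpa [hne] using h0
  rw [hn0, cval_zero, map_zero] at hn
  exact sub_eq_zero.1 hn.symm

include hT ht₀ hξ in
theorem eq_all (hp : FibCat.IsFibGrpd 𝒢.p)
    (hI : AlgSt.RepByAlgSpWith AlgSp.IsFiniteMor (FibCat.inertiaToBase (FibCat.toSelf 𝒢)))
    (hX₁ : T.X₁ = cst (StCoh.J K₀ 𝒢) ℤ) {y : 𝒢.obj} (a b : y ⟶ ξ) :
    T.X₂.obj.map a.op t₀ = T.X₂.obj.map b.op t₀ := by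
  obtain @⟨X₁, X₂, X₃, f, g, zero⟩ := T
  subst hX₁
  obtain ⟨c, hc⟩ := exists_diff hT q ht₀ a b
  suffices c = 0 by rw [this, map_zero] at hc; exact sub_eq_zero.1 hc.symm
  obtain ⟨R, hR, hRc⟩ := exists_local_cval (StCoh.J K₀ 𝒢) ℤ c
  refine sheaf_sep _ hR fun z ψ hψ => ?_
  rw [map_zero]
  rcases isEmpty_or_nonempty (𝒢.p.obj z).left with h | ⟨⟨pz⟩⟩
  · exact eq_zero_of_bot_mem (StCoh.J K₀ 𝒢) (bot_mem_at_empty hp) _ _
  obtain ⟨m, hm⟩ := hRc ψ hψ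
  rw [← hm]
  obtain ⟨Ω, _, _, ⟨j⟩, hΩ⟩ := exists_geom pz L
  obtain ⟨w, ω, hω⟩ := hp.exists_lift (x := z)
    (Over.homMk j rfl : Over.mk (j ≫ (𝒢.p.obj z).hom) ⟶ 𝒢.p.obj z)
  have hw : 𝒢.p.obj w = Over.mk (j ≫ (𝒢.p.obj z).hom) := IsHomLift.domain_eq 𝒢.p (Over.homMk j rfl : Over.mk (j ≫ (𝒢.p.obj z).hom) ⟶ 𝒢.p.obj z) ω
  have e := eq_at_geom (T := ShortComplex.mk f g zero) hT q hξ ht₀ hp hI rfl hΩ hw
    (ω ≫ ψ ≫ a) (ω ≫ ψ ≫ b)
  have h1 : X₂.obj.map ω.op (X₂.obj.map ψ.op (f.hom.app (op y) c)) = 0 := by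
    rw [hc, map_sub, map_sub, res_res, res_res, res_res, res_res]
    exact sub_eq_zero.2 (by rw [Category.assoc, Category.assoc]; exact e)
  rw [← NatTrans.naturality_apply, ← hm, ← NatTrans.naturality_apply, map_cval] at h1
  have h2 : cval (StCoh.J K₀ 𝒢) ℤ w m = 0 :=
    (sections_preimage hT w (0 : X₂.obj.obj (op w)) (map_zero _)).1 (h1.trans (map_zero _).symm)
  have h3 : m = 0 := (cval_bijective (StCoh.J K₀ 𝒢) ℤ (eq_top_at_geom hp hw)).1 (h2.trans (cval_zero _ _ w).symm)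
  rw [h3, cval_zero]

end Vanish

theorem subsingleton_H1_gerbe (hp : FibCat.IsFibGrpd 𝒢.p) (hger : Gerb.IsGerbe J₀ 𝒢)
    (hI : AlgSt.RepByAlgSpWith AlgSp.IsFiniteMor (FibCat.inertiaToBase (FibCat.toSelf 𝒢))) :
    Subsingleton (StCoh.H K₀ (StCoh.const K₀ 𝒢 ℤ) 1) := by
  refine subsingleton_H1 _ fun T hT hX₁ q => ?_
  haveI := hT.epi_g
  have hobj := Fib44.locSurjObj_toSelf_iff.1 hger.2.1
  have hhom := Fib44.locSurjHom_toSelf_iff.1 hger.2.2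
  -- a lift over a finite extension
  obtain ⟨R₀, hR₀, hR₀x⟩ := hobj (Over.mk (𝟙 (Spec (CommRingCat.of k))))
  obtain ⟨L₀, _, q₀, hq₀, hm₀⟩ := exists_finite_mem (𝟙 _) hR₀
  obtain ⟨ξ₀, hξ₀⟩ := hR₀x _ hm₀
  obtain ⟨R₁, hR₁, hR₁t⟩ := local_lift T.g (q.s ξ₀)
  have aux : ∀ (U : Over (Spec (CommRingCat.of k))) (P : Sieve U), U = Over.mk (q₀ ≫ 𝟙 _) → P ∈ J₀ U →
      ∃ (L : Type u) (_ : Field L) (s : Spec (CommRingCat.of L) ⟶ Spec (CommRingCat.of k)) (_ : IsFinite s)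
        (g : Over.mk s ⟶ U), P g := by
    rintro U P rfl hP
    obtain ⟨L, _, q₁, hq₁, hm₁⟩ := exists_finite_mem _ hP
    exact ⟨L, inferInstance, q₁ ≫ q₀ ≫ 𝟙 _, inferInstance, _, hm₁⟩
  obtain ⟨L, _, s, _, g, hg⟩ := aux _ _ hξ₀ ((Fib44.mem_restricted_iff hp R₁).1 hR₁)
  obtain ⟨ξ, χ, hξ, hgχ⟩ := Fib44.exists_lift_arrow hp g
  rw [hgχ, Fib44.push_arrows_iff hp _ _ hξ] at hg
  obtain ⟨t₀, ht₀⟩ := hR₁t χ hg
  rw [q.comp] at ht₀
  -- objects mapping to it are everywhere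
  have hcov : ∀ x : 𝒢.obj, ∃ R ∈ StCoh.J K₀ 𝒢 x, ∀ ⦃y : 𝒢.obj⦄ (φ : y ⟶ x), R.arrows φ → Nonempty (y ⟶ ξ) := by
    intro x
    let U : Sieve x :=
      { arrows := fun y φ => Nonempty (y ⟶ ξ)
        downward_closed := fun {y z φ} h g => h.map fun e => g ≫ e }
    refine ⟨U, mem_of_push x ?_, fun y φ h => h⟩
    let X := 𝒢.p.obj x
    have h1 : Fib44.OnCover J₀ X fun V _ => Nonempty (V ⟶ Over.mk s) := by
      refine ⟨Sieve.overEquiv X |>.symm (Sieve.generate (Presieve.singleton (pullback.fst X.hom s))), ?_, ?_⟩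
      · haveI : Surjective s := ⟨fun p => ⟨IsLocalRing.closedPoint L, Subsingleton.elim _ _⟩⟩
        haveI : Flat s := inferInstance
        haveI : LocallyOfFinitePresentation s := LocallyOfFinitePresentation.iff_locallyOfFiniteType.2 inferInstance
        haveI : Flat (pullback.fst X.hom s) := inferInstance
        haveI : Surjective (pullback.fst X.hom s) := MorphismProperty.pullback_fst (P := @Surjective) _ _ inferInstance
        refine Gerb44.mem_J_of_cover (R₀ := Presieve.singleton (pullback.fst X.hom s))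
          ((Scheme.singleton_mem_precoverage_iff _ _).2 ⟨(pullback.fst X.hom s).surjective, inferInstance, inferInstance⟩) _ ?_
        intro W g' hg'
        rw [Sieve.overEquiv_symm_iff]
        exact Sieve.le_generate (Presieve.singleton (pullback.fst X.hom s)) _ g' hg'
      · intro V v hv
        rw [Sieve.overEquiv_symm_iff] at hv
        obtain ⟨W, h, _, ⟨⟩, e⟩ := hv
        exact ⟨Over.homMk (h ≫ pullback.snd X.hom s) (by
          show (h ≫ pullback.snd X.hom s) ≫ s = V.hom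
          rw [Category.assoc, ← pullback.condition, reassoc_of% e, Over.w v])⟩
    obtain ⟨R, hR, hRU⟩ := h1.trans (Q := fun V f => ∃ (y : 𝒢.obj) (φ : y ⟶ x), 𝒢.p.IsHomLift f φ ∧ Nonempty (y ⟶ ξ))
      (by
        rintro V v ⟨hV⟩
        obtain ⟨x', φx, hφx⟩ := Fib44.exists_lift' 𝒢.p hp rfl v
        obtain ⟨ξ', φξ, hφξ⟩ := Fib44.exists_lift' 𝒢.p hp hξ hV
        obtain rfl : 𝒢.p.obj x' = V := IsHomLift.domain_eq 𝒢.p v φx
        have hξ' : 𝒢.p.obj ξ' = 𝒢.p.obj x' := IsHomLift.domain_eq 𝒢.p hV φξ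
        refine Fib44.OnCover.mono (hhom x' ξ' hξ') ?_
        rintro W f ⟨x₀, φ, ψ, hφ, hψ⟩
        exact ⟨x₀, φ ≫ φx, inferInstance, ⟨ψ ≫ φξ⟩⟩)
    refine GrothendieckTopology.superset_covering _ (fun V f hf => ?_) hR
    obtain ⟨y, φ, hφ, hy⟩ := hRU f hf
    have hyV := IsHomLift.domain_eq 𝒢.p f φ
    have e : f = eqToHom hyV.symm ≫ 𝒢.p.map φ := by
      rw [IsHomLift.fac' 𝒢.p f φ]; simp
    rw [e, Fib44.push_arrows_iff hp _ _ hyV]
    exact hy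
  choose R hR hRξ using hcov
  have hkey : ∀ {y : 𝒢.obj} (a b : y ⟶ ξ), T.X₂.obj.map a.op t₀ = T.X₂.obj.map b.op t₀ := fun a b =>
    eq_all hT q hξ ht₀ hp hI hX₁ a b
  have hglue : ∀ x, ∃ v : T.X₂.obj.obj (op x), ∀ ⦃y : 𝒢.obj⦄ (φ : y ⟶ x) (b : y ⟶ ξ), (R x).arrows φ →
      T.X₂.obj.map φ.op v = T.X₂.obj.map b.op t₀ := by
    intro x
    obtain ⟨v, hv⟩ := sheaf_glue T.X₂ (hR x) (fun y φ hφ => T.X₂.obj.map (hRξ x φ hφ).some.op t₀)
      (fun y z φ hφ g => by rw [res_res]; exact hkey _ _)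
    exact ⟨v, fun y φ b hφ => (hv φ hφ).trans (hkey _ _)⟩
  choose v hv using hglue
  refine ⟨⟨v, fun {x y} γ => ?_⟩, fun x => ?_⟩
  · refine sheaf_sep _ ((StCoh.J K₀ 𝒢).intersection_covering (hR y) ((StCoh.J K₀ 𝒢).pullback_stable γ (hR x)))
      fun z φ hφ => ?_
    rw [res_res, hv x _ (hRξ y φ hφ.1).some hφ.2, hv y φ (hRξ y φ hφ.1).some hφ.1]
  · refine sheaf_sep _ (hR x) fun z φ hφ => ?_
    rw [← NatTrans.naturality_apply, hv x φ (hRξ x φ hφ).some hφ, NatTrans.naturality_apply, ht₀, q.comp, q.comp]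

end Groth.Agent.StCohH99
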