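import Mathlib
import Groth.Prelude.Def_StCoh
import Groth.Prelude.Def_GmPts2
import Groth.Agent.Fib44.Site
import Groth.Agent.Gerb44.BGGerbe

/-!
The Kummer sequence on the fppf site of a category fibred in groupoids over schemes.
-/

set_option autoImplicit false
set_option backward.isDefEq.respectTransparency false
set_option backward.isDefEq.respectTransparency.types false
set_option linter.style.haveILetI false

noncomputable section

universe w v u

open CategoryTheory CategoryTheory.Limits AlgebraicGeometry Opposite Polynomial MonObj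

namespace Groth.Agent.StCohH99

section Homological

open Abelian

variable {C : Type u} [Category.{v} C] [Abelian C] [HasExt.{w} C]

theorem kummer_general (Z G : C) (n : ℕ) [Epi (n • 𝟙 G)] (j : ℕ) :
    ((Ext.mk₀ (kernel.ι (n • 𝟙 G))).postcomp Z (add_zero (j + 1))).range =
        (DistribSMul.toAddMonoidHom (Ext Z G (j + 1)) n).ker ∧
      Nonempty (((Ext.mk₀ (kernel.ι (n • 𝟙 G))).postcomp Z (add_zero (j + 1))).ker ≃+
        Ext Z G j ⧸ (DistribSMul.toAddMonoidHom (Ext Z G j) n).range) := by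
  let T := ShortComplex.mk (kernel.ι (n • 𝟙 G)) (n • 𝟙 G) (kernel.condition _)
  have hT : T.ShortExact :=
    ShortComplex.ShortExact.mk' (ShortComplex.exact_of_f_is_kernel _ (kernelIsKernel _)) inferInstance
      (inferInstanceAs (Epi (n • 𝟙 G)))
  have hn : ∀ (i : ℕ) (x : Ext Z G i), x.comp (Ext.mk₀ (n • 𝟙 G)) (add_zero i) = n • x := fun i x => by
    clear hT T
    induction n with
    | zero => simp
    | succ m ih => simp [succ_nsmul, Ext.mk₀_add, ih]
  refine ⟨?_, ?_⟩
  · ext x
    refine ⟨?_, fun hx => Ext.covariant_sequence_exact₂ Z hT x ((hn _ x).trans hx)⟩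
    rintro ⟨y, rfl⟩
    show n • Ext.comp y (Ext.mk₀ T.f) (add_zero _) = 0
    rw [← hn]
    show Ext.comp (Ext.comp y (Ext.mk₀ T.f) _) (Ext.mk₀ T.g) _ = 0
    rw [Ext.comp_assoc_of_third_deg_zero, Ext.mk₀_comp_mk₀, T.zero, Ext.mk₀_zero, Ext.comp_zero]
  · let δ : Ext Z G j →+ Ext Z T.X₁ (j + 1) := hT.extClass.postcomp Z rfl
    have h1 : δ.ker = (DistribSMul.toAddMonoidHom (Ext Z G j) n).range := by
      ext x
      refine ⟨fun hx => ?_, ?_⟩
      · obtain ⟨y, hy⟩ := Ext.covariant_sequence_exact₃ Z hT x rfl hx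
        exact ⟨y, (hn _ y).symm.trans hy⟩
      · rintro ⟨y, rfl⟩
        show Ext.comp (n • y) hT.extClass rfl = 0
        rw [← hn]
        show Ext.comp (Ext.comp y (Ext.mk₀ T.g) _) hT.extClass _ = 0
        rw [Ext.comp_assoc_of_second_deg_zero, ShortComplex.ShortExact.comp_extClass, Ext.comp_zero]
    have h2 : δ.range = ((Ext.mk₀ (kernel.ι (n • 𝟙 G))).postcomp Z (add_zero (j + 1))).ker := by
      ext x
      refine ⟨?_, fun hx => ?_⟩
      · rintro ⟨y, rfl⟩
        show Ext.comp (Ext.comp y hT.extClass rfl) (Ext.mk₀ T.f) (add_zero (j + 1)) = 0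
        rw [Ext.comp_assoc_of_third_deg_zero, ShortComplex.ShortExact.extClass_comp, Ext.comp_zero]
      · exact Ext.covariant_sequence_exact₁ (n₁ := j + 1) Z hT x hx rfl
    exact ⟨(AddEquiv.addSubgroupCongr h2).symm.trans
      ((QuotientAddGroup.quotientKerEquivRange δ).symm.trans (QuotientAddGroup.quotientAddEquivOfEq h1))⟩

end Homological

theorem exists_fppf_root (R : Type u) [CommRing R] [Nontrivial R] (n : ℕ) (hn : 0 < n) (a : Rˣ) :
    ∃ (R' : Type u) (_ : CommRing R') (_ : Algebra R R'), Module.Flat R R' ∧ Algebra.FinitePresentation R R' ∧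
      Function.Surjective (PrimeSpectrum.comap (algebraMap R R')) ∧
      ∃ b : R'ˣ, b ^ n = Units.map (algebraMap R R').toMonoidHom a := by
  let F : R[X] := X ^ n - C (a : R)
  have hm : F.Monic := monic_X_pow_sub_C _ hn.ne'
  let Q := R[X] ⧸ Ideal.span ({F} : Set R[X])
  haveI : Algebra.FinitePresentation R Q := .quotient ⟨{F}, by simp⟩
  haveI : Module.Finite R Q := hm.finite_quotient
  haveI : Module.Free R Q := hm.free_quotient
  have hinj : Function.Injective (algebraMap R Q) := by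
    refine (injective_iff_map_eq_zero _).2 fun r hr => ?_
    by_contra h
    have hd : F ∣ C r := Ideal.mem_span_singleton.1 (Ideal.Quotient.eq_zero_iff_mem.1 hr)
    exact hm.not_dvd_of_natDegree_lt (C_ne_zero.2 h) (by
      rw [natDegree_C, natDegree_X_pow_sub_C]; exact hn) hd
  haveI : FaithfulSMul R Q := (faithfulSMul_iff_algebraMap_injective R Q).2 hinj
  have e : (Ideal.Quotient.mk (Ideal.span ({F} : Set R[X])) X : Q) ^ n = algebraMap R Q a := by
    rw [← map_pow]
    exact (Ideal.Quotient.mk_eq_mk_iff_sub_mem _ _).2 (Ideal.mem_span_singleton_self _)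
  have hu : IsUnit (Ideal.Quotient.mk (Ideal.span ({F} : Set R[X])) X : Q) :=
    (isUnit_pow_iff hn.ne').1 (e ▸ a.isUnit.map (algebraMap R Q))
  exact ⟨Q, inferInstance, inferInstance, inferInstance, inferInstance, Algebra.IsIntegral.comap_surjective R Q,
    hu.unit, Units.ext e⟩

variable {S : Scheme.{u}}

/-- the sieve of the arrows over which a unit has an `n`-th root -/
def rootSieve {T : Over S} (n : ℕ) (v : (Γ(T.left, ⊤))ˣ) : Sieve T where
  arrows V g := ∃ b : (Γ(V.left, ⊤))ˣ, b ^ n = Units.map g.left.appTop.hom.toMonoidHom v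
  downward_closed := by
    rintro V W g ⟨b, hb⟩ f
    refine ⟨Units.map f.left.appTop.hom.toMonoidHom b, ?_⟩
    rw [← map_pow, hb]
    refine Units.ext ?_
    simp

theorem rootSieve_mem {T : Over S} (n : ℕ) (hn : 0 < n) (v : (Γ(T.left, ⊤))ˣ) :
    rootSieve n v ∈ QuotSh.J Scheme.fppfPrecoverage S T := by
  have hx : ∀ x : T.left, ∃ (W : Scheme.{u}) (g : W ⟶ T.left) (w : W), g w = x ∧ Flat g ∧
      LocallyOfFinitePresentation g ∧ rootSieve n v (Over.homMk g rfl : Over.mk (g ≫ T.hom) ⟶ T) := fun x => by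
    obtain ⟨R, j, hj, ⟨y, hy⟩, -⟩ := Scheme.exists_affine_mem_range_and_range_subset
      (x := x) (U := (⊤ : T.left.Opens)) trivial
    haveI : Nontrivial R := (PrimeSpectrum.nonempty_iff_nontrivial).1 ⟨y⟩
    obtain ⟨R', _, _, hfl, hfp, hsurj, b, hb⟩ :=
      exists_fppf_root R n hn (Units.map (j.appTop ≫ (Scheme.ΓSpecIso R).hom).hom.toMonoidHom v)
    let π : Spec (CommRingCat.of R') ⟶ Spec R := Spec.map (CommRingCat.ofHom (algebraMap R R'))
    haveI : Flat π := HasRingHomProperty.Spec_iff.2 (RingHom.flat_algebraMap_iff.2 hfl)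
    haveI : LocallyOfFinitePresentation π :=
      HasRingHomProperty.Spec_iff.2 (RingHom.finitePresentation_algebraMap.2 hfp)
    obtain ⟨y', hy'⟩ := hsurj y
    refine ⟨_, π ≫ j, y', (congrArg j hy').trans hy, inferInstance, inferInstance,
      Units.map (Scheme.ΓSpecIso (CommRingCat.of R')).inv.hom.toMonoidHom b, ?_⟩
    refine ((map_pow _ b n).symm.trans (congrArg _ hb)).trans ?_
    refine Units.ext ?_
    have e : ((j.appTop ≫ (Scheme.ΓSpecIso R).hom) ≫ CommRingCat.ofHom (algebraMap R R')) ≫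
        (Scheme.ΓSpecIso (CommRingCat.of R')).inv = (π ≫ j).appTop := by
      rw [Category.assoc, Scheme.ΓSpecIso_inv_naturality]
      simp [π]
    exact congrArg (fun k => k.hom (v : Γ(T.left, ⊤))) e
  choose W g w hw hfl hfp hR using hx
  refine Gerb44.mem_J_of_cover (R₀ := Presieve.ofArrows W g)
    ((Scheme.ofArrows_mem_precoverage_iff _).2 ⟨fun x => ⟨x, w x, hw x⟩, fun x => ⟨hfl x, hfp x⟩⟩) _ ?_
  rintro Z q ⟨x⟩
  exact hR x

theorem epi_powMap {𝒳 : AlgSt.Cat S} (h𝒳 : FibCat.IsFibGrpd 𝒳.p) [StCoh.BaseCont Scheme.fppfPrecoverage 𝒳]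
    (n : ℕ) (hn : 0 < n) : Epi (StCoh.powMap Scheme.fppfPrecoverage 𝒳 n) := by
  have : Sheaf.IsLocallySurjective (StCoh.powMap Scheme.fppfPrecoverage 𝒳 n) := by
    refine ⟨fun {x} τ => ?_⟩
    let t : 𝒳.p.obj x ⟶ Red.Gm S := τ.down.toMul
    let R := rootSieve n (GmPts.unitOfPt t)
    have hR : R.functorPullback 𝒳.p ∈ StCoh.J Scheme.fppfPrecoverage 𝒳 x :=
      Functor.mem_restrictedTopology_of_functorPushforward_mem (by
        rw [Fib44.push_pull h𝒳]; exact rootSieve_mem n hn _)
    refine GrothendieckTopology.superset_covering _ ?_ hR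
    intro y φ hφ
    obtain ⟨b, hb⟩ := hφ
    refine ⟨ULift.up (Additive.ofMul (GmPts.ptOfUnit b)), ?_⟩
    have happ : ∀ (m : ℕ) (s : ((StCoh.Gm Scheme.fppfPrecoverage 𝒳).obj.obj (op y))),
        (StCoh.powMap Scheme.fppfPrecoverage 𝒳 m).hom.app (op y) s = m • s := fun m s => by
      induction m with
      | zero => simp [StCoh.powMap]
      | succ k ih => simp only [StCoh.powMap, succ_nsmul] at ih ⊢; rw [← ih]; rfl
    refine (happ n _).trans (ULift.ext _ _ ?_)
    show n • Additive.ofMul (GmPts.ptOfUnit b) = Additive.ofMul (𝒳.p.map φ ≫ t)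
    rw [← ofMul_pow]
    refine congrArg Additive.ofMul ((GmPts.equiv _).injective ?_)
    rw [map_pow, GmPts.equiv_apply, GmPts.equiv_apply, GmPts.unitOfPt_ptOfUnit, GmPts.unitOfPt_comp]
    exact hb
  infer_instance

end Groth.Agent.StCohH99
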