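import Groth.Prelude.Def_StCoh
import Groth.Agent.Fib44.GeomPt
import Groth.Agent.Alg80.BigField
import Groth.Agent.Gerb44.BGGerbe
import Mathlib.AlgebraicGeometry.Morphisms.Finite
import Mathlib.LinearAlgebra.FreeModule.Finite.Matrix

/-!
Field valued points on the big fppf site.
-/

set_option autoImplicit false
set_option backward.isDefEq.respectTransparency false
set_option backward.isDefEq.respectTransparency.types false
set_option linter.style.haveILetI false

noncomputable section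

universe u

open CategoryTheory CategoryTheory.Limits AlgebraicGeometry TopologicalSpace

namespace Groth.Agent.StCohH99

variable {S : Scheme.{u}}

/-- a covering sieve of the spectrum of a field contains the spectrum of a finite extension -/
theorem exists_finite_mem {F : Type u} [Field F] (t : Spec (CommRingCat.of F) ⟶ S) {R : Sieve (Over.mk t)}
    (hR : R ∈ QuotSh.J Scheme.fppfPrecoverage S (Over.mk t)) :
    ∃ (L : Type u) (_ : Field L) (q : Spec (CommRingCat.of L) ⟶ Spec (CommRingCat.of F)),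
      IsFinite q ∧ R.arrows (Over.homMk q rfl : Over.mk (q ≫ t) ⟶ Over.mk t) := by
  have h : Sieve.overEquiv (Over.mk t) R ∈ Scheme.fppfTopology (Spec (CommRingCat.of F)) :=
    (GrothendieckTopology.mem_over_iff _ _).1 hR
  have : (@Flat ⊓ @LocallyOfFinitePresentation :
      MorphismProperty Scheme.{u}).IsStableUnderBaseChange :=
    MorphismProperty.IsStableUnderBaseChange.inf
  have : MorphismProperty.IsMultiplicative
      (@Flat ⊓ @LocallyOfFinitePresentation : MorphismProperty Scheme.{u}) :=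
    { id_mem := fun X => ⟨(inferInstance : Flat (𝟙 X)),
        (inferInstance : LocallyOfFinitePresentation (𝟙 X))⟩
      comp_mem := fun f g ⟨_, _⟩ ⟨_, _⟩ => ⟨(inferInstance : Flat (f ≫ g)),
        (inferInstance : LocallyOfFinitePresentation (f ≫ g))⟩ }
  obtain ⟨𝒰, h𝒰⟩ := Scheme.exists_cover_of_mem_grothendieckTopology
    (P := @Flat ⊓ @LocallyOfFinitePresentation) h
  obtain ⟨i, y, -⟩ := 𝒰.exists_eq (IsLocalRing.closedPoint F)
  have : LocallyOfFinitePresentation (𝒰.f i) := (𝒰.map_prop i).2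
  have : JacobsonSpace (𝒰.X i) := LocallyOfFiniteType.jacobsonSpace (𝒰.f i)
  obtain ⟨x, -, hx⟩ := nonempty_inter_closedPoints (Z := Set.univ) ⟨y, trivial⟩
    isClosed_univ.isLocallyClosed
  have : LocallyOfFiniteType ((𝒰.X i).fromSpecResidueField x) := isClosed_singleton_iff_locallyOfFiniteType.1 hx
  let q := (𝒰.X i).fromSpecResidueField x ≫ 𝒰.f i
  have hq : IsFinite q :=
    isFinite_iff_locallyOfFiniteType_of_jacobsonSpace.2 inferInstance
  have hmem := (Sieve.overEquiv_iff R _).1 (h𝒰 _ _ ⟨i⟩)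
  refine ⟨(𝒰.X i).residueField x, inferInstance, q, hq, ?_⟩
  have := R.downward_closed hmem (Over.homMk ((𝒰.X i).fromSpecResidueField x) (Category.assoc _ _ _).symm :
    Over.mk (q ≫ t) ⟶ Over.mk (𝒰.f i ≫ t))
  convert this using 1
  exact Over.OverMorphism.ext rfl

theorem eq_top_of_geom {Ω : Type u} [Field Ω] [IsAlgClosed Ω] (t : Spec (CommRingCat.of Ω) ⟶ S)
    {R : Sieve (Over.mk t)} (hR : R ∈ QuotSh.J Scheme.fppfPrecoverage S (Over.mk t)) : R = ⊤ :=
  Sieve.id_mem_iff_eq_top.1 (Fib44.id_mem_of_covering_geomPt t hR)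

theorem bot_mem_of_isEmpty {T : Over S} [IsEmpty T.left] : (⊥ : Sieve T) ∈ QuotSh.J Scheme.fppfPrecoverage S T := by
  refine Gerb44.mem_J_of_cover (R₀ := Presieve.ofArrows (PEmpty.elim : PEmpty.{u+1} → Scheme.{u}) fun i => i.elim)
    ((Scheme.ofArrows_mem_precoverage_iff _).2 ⟨fun x => isEmptyElim x, fun i => i.elim⟩) _ ?_
  rintro W g ⟨i⟩
  exact i.elim

/-- finitely many points in a finite scheme over a given point -/
theorem finite_lifts {B W : Scheme.{u}} {F Ω : Type u} [Field F] [Field Ω] (b : B ⟶ Spec (CommRingCat.of F)) [IsIso b]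
    (i : W ⟶ B) [IsFinite i] (t : Spec (CommRingCat.of Ω) ⟶ B) :
    Finite {g : Spec (CommRingCat.of Ω) ⟶ W // g ≫ i = t} := by
  let i' := i ≫ b
  haveI : IsAffine W := isAffine_of_isAffineHom i'
  let ψ : F →+* Γ(W, ⊤) := ((Scheme.ΓSpecIso (CommRingCat.of F)).inv ≫ i'.appTop).hom
  letI : Algebra F Γ(W, ⊤) := ψ.toAlgebra
  haveI : Module.Finite F Γ(W, ⊤) := by
    have : ψ.Finite := RingHom.Finite.comp (Scheme.Hom.finite_appTop i')
      (RingHom.Finite.of_surjective _ (ConcreteCategory.bijective_of_isIso (Scheme.ΓSpecIso (CommRingCat.of F)).inv).2)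
    exact this
  let χ : F →+* Ω := (((Scheme.ΓSpecIso (CommRingCat.of F)).inv ≫ (t ≫ b).appTop) ≫
    (Scheme.ΓSpecIso (CommRingCat.of Ω)).hom).hom
  letI : Algebra F Ω := χ.toAlgebra
  let m : {g : Spec (CommRingCat.of Ω) ⟶ W // g ≫ i = t} → (Γ(W, ⊤) →ₐ[F] Ω) := fun g =>
    { (g.1.appTop ≫ (Scheme.ΓSpecIso (CommRingCat.of Ω)).hom).hom with
      commutes' := fun r => by
        show ((((Scheme.ΓSpecIso (CommRingCat.of F)).inv ≫ i'.appTop) ≫ g.1.appTop) ≫
          (Scheme.ΓSpecIso (CommRingCat.of Ω)).hom).hom r = χ r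
        rw [Category.assoc (Scheme.ΓSpecIso (CommRingCat.of F)).inv, ← Scheme.Hom.comp_appTop]
        have e : g.1 ≫ i' = t ≫ b := by rw [← Category.assoc, g.2]
        rw [e] }
  refine Finite.of_injective m fun g g' e => Subtype.ext (ext_of_isAffine ?_)
  have e' : g.1.appTop ≫ (Scheme.ΓSpecIso (CommRingCat.of Ω)).hom =
      g'.1.appTop ≫ (Scheme.ΓSpecIso (CommRingCat.of Ω)).hom :=
    CommRingCat.hom_ext (congrArg (fun z : Γ(W, ⊤) →ₐ[F] Ω => z.toRingHom) e)
  exact (cancel_mono _).1 e'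

theorem exists_geom {T : Scheme.{u}} (x : T) (L : Type u) [Field L] :
    ∃ (Ω : Type u) (_ : Field Ω) (_ : IsAlgClosed Ω),
      Nonempty (Spec (CommRingCat.of Ω) ⟶ T) ∧ max (Cardinal.mk L) Cardinal.aleph0 < Cardinal.mk Ω := by
  obtain ⟨Ω, _, _, emb, h⟩ := Alg80.exists_big_algClosed L (T.residueField x)
  exact ⟨Ω, inferInstance, inferInstance, ⟨Spec.map (CommRingCat.ofHom emb) ≫ T.fromSpecResidueField x⟩, h⟩

/-- automorphisms of a big geometric point act transitively on points of a field extension -/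
theorem exists_point_aut {k L Ω : Type u} [Field k] [Field L] [Field Ω] [IsAlgClosed Ω]
    (hΩ : max (Cardinal.mk L) Cardinal.aleph0 < Cardinal.mk Ω)
    (s : Spec (CommRingCat.of L) ⟶ Spec (CommRingCat.of k)) (t : Spec (CommRingCat.of Ω) ⟶ Spec (CommRingCat.of k))
    (e₁ e₂ : Over.mk t ⟶ Over.mk s) : ∃ τ : Over.mk t ≅ Over.mk t, τ.hom ≫ e₁ = e₂ := by
  obtain ⟨a, ha⟩ := Spec.map_surjective e₁.left
  obtain ⟨b, hb⟩ := Spec.map_surjective e₂.left
  obtain ⟨ψ, hψ⟩ := Alg80.exists_ringEquiv_comp hΩ b.hom a.hom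
  let σ : Spec (CommRingCat.of Ω) ≅ Spec (CommRingCat.of Ω) :=
    Scheme.Spec.mapIso ψ.toCommRingCatIso.op
  have hσ : σ.hom ≫ e₁.left = e₂.left := by
    rw [← ha, ← hb]
    show Spec.map ψ.toCommRingCatIso.hom ≫ Spec.map a = Spec.map b
    rw [← Spec.map_comp]
    congr 1
    exact CommRingCat.hom_ext hψ
  refine ⟨Over.isoMk σ ?_, Over.OverMorphism.ext hσ⟩
  show σ.hom ≫ t = t
  rw [← show e₁.left ≫ s = t from Over.w e₁, reassoc_of% hσ]
  exact (Over.w e₂).trans (Over.w e₁).symm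

end Groth.Agent.StCohH99
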