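import Mathlib.CategoryTheory.Sites.SheafCohomology.Basic
import Mathlib.CategoryTheory.Sites.ConstantSheaf
import Mathlib.CategoryTheory.Sites.EpiMono
import Mathlib.CategoryTheory.Abelian.GrothendieckCategory.EnoughInjectives
import Mathlib.Algebra.Homology.DerivedCategory.Ext.EnoughInjectives
import Mathlib.Algebra.Homology.ShortComplex.Ab
import Mathlib.Algebra.Category.Grp.AB
import Groth.Prelude.Def_StCoh

/-!
First cohomology on a site vanishes as soon as compatible families of sections lift along epimorphisms; sections of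
constant sheaves.
-/

set_option autoImplicit false
set_option backward.isDefEq.respectTransparency false
set_option backward.isDefEq.respectTransparency.types false

noncomputable section

universe u

open CategoryTheory CategoryTheory.Limits Opposite Abelian

namespace Groth.Agent.StCohH99

variable {C : Type (u + 1)} [Category.{u} C] {J : GrothendieckTopology C}

/-- compatible families of sections over all objects -/
structure Fam (G : Cᵒᵖ ⥤ AddCommGrpCat.{u + 1}) where
  s : ∀ x : C, G.obj (op x)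
  comp : ∀ {x y : C} (f : y ⟶ x), G.map f.op (s x) = s y

theorem sections_preimage {T : ShortComplex (Sheaf J AddCommGrpCat.{u + 1})} (hT : T.ShortExact) (x : C)
    (v : T.X₂.obj.obj (op x)) (hv : T.g.hom.app (op x) v = 0) :
    Function.Injective (T.f.hom.app (op x)) ∧ ∃ y, T.f.hom.app (op x) y = v := by
  let G : Sheaf J AddCommGrpCat.{u + 1} ⥤ AddCommGrpCat.{u + 1} :=
    sheafToPresheaf J AddCommGrpCat.{u + 1} ⋙ (evaluation _ _).obj (op x)
  have hl : PreservesFiniteLimits (sheafToPresheaf J AddCommGrpCat.{u + 1}) :=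
    ⟨fun _ _ _ => (sheafificationAdjunction J AddCommGrpCat.{u + 1}).rightAdjoint_preservesLimits.preservesLimitsOfShape⟩
  have : PreservesFiniteLimits G := comp_preservesFiniteLimits _ _
  have : G.Additive := inferInstance
  have h := (((Functor.preservesFiniteLimits_tfae G).out 3 0).1 ‹PreservesFiniteLimits G› :
    ∀ (S : ShortComplex (Sheaf J AddCommGrpCat.{u + 1})), S.ShortExact →
      (S.map G).Exact ∧ Mono (G.map S.f)) T hT
  exact ⟨(AddCommGrpCat.mono_iff_injective _).1 h.2, (ShortComplex.ab_exact_iff _).1 h.1 v hv⟩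

theorem local_lift {F G : Sheaf J AddCommGrpCat.{u + 1}} (g : F ⟶ G) [Epi g] {x : C} (s : G.obj.obj (op x)) :
    ∃ R ∈ J x, ∀ ⦃y : C⦄ (φ : y ⟶ x), R.arrows φ → ∃ t : F.obj.obj (op y),
      g.hom.app (op y) t = G.obj.map φ.op s := by
  have : Sheaf.IsLocallySurjective g :=
    (Sheaf.isLocallySurjective_iff_epi' AddCommGrpCat.{u + 1} g).2 ‹_›
  exact ⟨_, Presheaf.imageSieve_mem J g.hom s, fun _ _ h => h⟩

theorem subsingleton_H1 [HasExt.{u + 1} (Sheaf J AddCommGrpCat.{u + 1})] (F : Sheaf J AddCommGrpCat.{u + 1})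
    (h : ∀ (T : ShortComplex (Sheaf J AddCommGrpCat.{u + 1})), T.ShortExact → T.X₁ = F → ∀ q : Fam T.X₃.obj,
      ∃ t : Fam T.X₂.obj, ∀ x, T.g.hom.app (op x) (t.s x) = q.s x) :
    Subsingleton (Sheaf.H F 1) := by
  let T : ShortComplex (Sheaf J AddCommGrpCat.{u + 1}) :=
    ShortComplex.mk (Injective.ι F) (cokernel.π (Injective.ι F)) (cokernel.condition _)
  have hT : T.ShortExact :=
    ShortComplex.ShortExact.mk' (ShortComplex.exact_of_g_is_cokernel _ (cokernelIsCokernel _))
      (inferInstanceAs (Mono (Injective.ι F))) (inferInstanceAs (Epi (cokernel.π (Injective.ι F))))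
  haveI : Injective T.X₂ := inferInstanceAs (Injective (Injective.under F))
  let P : Cᵒᵖ ⥤ AddCommGrpCat.{u + 1} := (Functor.const _).obj (AddCommGrpCat.of (ULift.{u + 1} ℤ))
  let adj := sheafificationAdjunction J AddCommGrpCat.{u + 1}
  refine subsingleton_of_forall_eq 0 fun ξ => ?_
  obtain ⟨σ, rfl⟩ := Ext.covariant_sequence_exact₁ _ hT ξ (Ext.eq_zero_of_injective _) rfl
  obtain ⟨σ', rfl⟩ := (Ext.mk₀_bijective _ _).2 σ
  let q' : P ⟶ T.X₃.obj := adj.homEquiv P T.X₃ σ'
  obtain ⟨t, ht⟩ := h T hT rfl ⟨fun x => q'.app (op x) (ULift.up 1), fun f =>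
    (NatTrans.naturality_apply q' f.op (ULift.up 1)).symm⟩
  let t' : P ⟶ T.X₂.obj :=
    { app := fun x => AddCommGrpCat.ofHom
        { toFun := fun n => n.down • t.s x.unop
          map_zero' := zero_zsmul _
          map_add' := fun a b => add_zsmul _ a.down b.down }
      naturality := fun x y f => by
        refine AddCommGrpCat.ext fun n => ?_
        show n.down • t.s y.unop = T.X₂.obj.map f (n.down • t.s x.unop)
        rw [map_zsmul]
        exact congrArg (n.down • ·) (t.comp f.unop).symm }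
  have e : t' ≫ T.g.hom = q' := by
    refine NatTrans.ext (funext fun x => AddCommGrpCat.ext fun n => ?_)
    show T.g.hom.app x (n.down • t.s x.unop) = q'.app x n
    rw [map_zsmul, ht, ← map_zsmul]
    congr 1
    refine (congrArg (fun z : ULift.{u + 1} ℤ => z) ?_)
    obtain ⟨m⟩ := n
    exact ULift.ext _ _ ((zsmul_one m).trans (Int.cast_id))
  let τ := (adj.homEquiv P T.X₂).symm t'
  have e' : τ ≫ T.g = σ' := by
    rw [← Adjunction.homEquiv_naturality_right_symm]
    exact (congrArg (adj.homEquiv P T.X₃).symm e).trans (Equiv.symm_apply_apply _ _)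
  rw [← e', ← Ext.mk₀_comp_mk₀, Ext.comp_assoc_of_second_deg_zero, ShortComplex.ShortExact.comp_extClass,
    Ext.comp_zero]

section Const

variable (J) (M : Type) [AddCommGroup M]

/-- the constant sheaf -/
abbrev cst : Sheaf J AddCommGrpCat.{u + 1} :=
  (constantSheaf J AddCommGrpCat.{u + 1}).obj (AddCommGrpCat.of (ULift.{u + 1} M))

/-- a constant as a section -/
def cval (x : C) (m : M) : (cst J M).obj.obj (op x) :=
  (toSheafify J ((Functor.const Cᵒᵖ).obj (AddCommGrpCat.of (ULift.{u + 1} M)))).app (op x) (ULift.up m)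

theorem map_cval {x y : C} (f : y ⟶ x) (m : M) : (cst J M).obj.map f.op (cval J M x m) = cval J M y m :=
  (NatTrans.naturality_apply (toSheafify J ((Functor.const Cᵒᵖ).obj (AddCommGrpCat.of (ULift.{u + 1} M)))) f.op
    (ULift.up m)).symm

theorem cval_add (x : C) (m m' : M) : cval J M x (m + m') = cval J M x m + cval J M x m' :=
  map_add ((toSheafify J ((Functor.const Cᵒᵖ).obj (AddCommGrpCat.of (ULift.{u + 1} M)))).app (op x)).hom
    (ULift.up m) (ULift.up m')

theorem cval_zero (x : C) : cval J M x 0 = 0 :=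
  map_zero ((toSheafify J ((Functor.const Cᵒᵖ).obj (AddCommGrpCat.of (ULift.{u + 1} M)))).app (op x)).hom

theorem exists_local_cval {x : C} (c : (cst J M).obj.obj (op x)) :
    ∃ R ∈ J x, ∀ ⦃y : C⦄ (φ : y ⟶ x), R.arrows φ → ∃ m, cval J M y m = (cst J M).obj.map φ.op c := by
  haveI : Presheaf.IsLocallySurjective J
      (toSheafify J ((Functor.const Cᵒᵖ).obj (AddCommGrpCat.of (ULift.{u + 1} M)))) :=
    ((J.W_iff_isLocallyBijective _).1 (J.W_toSheafify _)).2
  exact ⟨_, Presheaf.imageSieve_mem J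
    (toSheafify J ((Functor.const Cᵒᵖ).obj (AddCommGrpCat.of (ULift.{u + 1} M)))) c,
    fun _ _ ⟨m, hm⟩ => ⟨m.down, hm⟩⟩

theorem cval_bijective {x : C} (hx : ∀ R ∈ J x, R = ⊤) : Function.Bijective (cval J M x) := by
  constructor
  · intro m m' e
    haveI : Presheaf.IsLocallyInjective J
        (toSheafify J ((Functor.const Cᵒᵖ).obj (AddCommGrpCat.of (ULift.{u + 1} M)))) :=
      ((J.W_iff_isLocallyBijective _).1 (J.W_toSheafify _)).1
    have h := Presheaf.equalizerSieve_mem J
      (toSheafify J ((Functor.const Cᵒᵖ).obj (AddCommGrpCat.of (ULift.{u + 1} M))))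
      (X := op x) (ULift.up m) (ULift.up m') e
    have h2 : (Presheaf.equalizerSieve (F := (Functor.const Cᵒᵖ).obj (AddCommGrpCat.of (ULift.{u + 1} M)))
        (X := op x) (ULift.up m) (ULift.up m')).arrows (𝟙 x) := by
      rw [hx _ h]; trivial
    exact congrArg ULift.down h2
  · intro c
    obtain ⟨R, hR, h⟩ := exists_local_cval J M c
    obtain ⟨m, hm⟩ := h (𝟙 x) (by rw [hx R hR]; trivial)
    exact ⟨m, by simpa using hm⟩

theorem eq_zero_of_bot_mem {x : C} (hx : (⊥ : Sieve x) ∈ J x) (F : Sheaf J AddCommGrpCat.{u + 1})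
    (c : F.obj.obj (op x)) : c = 0 :=
  ((isSheaf_iff_isSheaf_of_type J _).1 ((sheafCompose J (forget AddCommGrpCat.{u + 1})).obj F).property ⊥ hx).isSeparatedFor.ext
    (fun _ _ h => h.elim)

end Const

theorem sheaf_sep (F : Sheaf J AddCommGrpCat.{u + 1}) {x : C} {R : Sieve x} (hR : R ∈ J x)
    {a b : F.obj.obj (op x)} (h : ∀ ⦃y : C⦄ (φ : y ⟶ x), R.arrows φ → F.obj.map φ.op a = F.obj.map φ.op b) :
    a = b :=
  ((isSheaf_iff_isSheaf_of_type J _).1 ((sheafCompose J (forget AddCommGrpCat.{u + 1})).obj F).property R hR).isSeparatedFor.ext h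

theorem sheaf_glue (F : Sheaf J AddCommGrpCat.{u + 1}) {x : C} {R : Sieve x} (hR : R ∈ J x)
    (t : ∀ ⦃y : C⦄ (φ : y ⟶ x), R.arrows φ → F.obj.obj (op y))
    (ht : ∀ ⦃y z : C⦄ (φ : y ⟶ x) (hφ : R.arrows φ) (g : z ⟶ y),
      t (g ≫ φ) (R.downward_closed hφ g) = F.obj.map g.op (t φ hφ)) :
    ∃ a : F.obj.obj (op x), ∀ ⦃y : C⦄ (φ : y ⟶ x) (hφ : R.arrows φ), F.obj.map φ.op a = t φ hφ := by
  let e : Presieve.FamilyOfElements (F.obj ⋙ forget AddCommGrpCat.{u + 1}) (R : Presieve x) :=
    fun y φ hφ => t φ hφ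
  have he : e.Compatible := (Presieve.compatible_iff_sieveCompatible e).2 (by
    intro y z φ g hφ
    exact ht φ hφ g)
  obtain ⟨a, ha, -⟩ :=
    ((isSheaf_iff_isSheaf_of_type J _).1 ((sheafCompose J (forget AddCommGrpCat.{u + 1})).obj F).property R hR) e he
  exact ⟨a, fun y φ hφ => ha φ hφ⟩

end Groth.Agent.StCohH99
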